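import Cfsg.Agent.H728.Meet2.Psl
import Cfsg.Agent.H199.PslAut

/-!
# 2-subgroups of `PGL_n(F)`, `n ≥ 3`, `|F|` odd (helper750)

`meet_range` : for a 2-group `P` of automorphisms of `PSL_n(F)` some `x` in `PSL_n(F)` makes
`P ∩ P ^ x ∩ PGL_n(F)` trivial.
-/

set_option autoImplicit false

namespace Cfsg.Agent.H750.R3

open Matrix
open Cfsg.Agent.ClassicalGeometry.AutPSL.Root
open Cfsg.Agent.ClassicalGeometry.AutPSL.Auto
open Cfsg.Agent.H199.PslAut
open Cfsg.Agent.H728.Meet2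

/-- lifting a 2-group along a homomorphism -/
theorem exists_lift {G H : Type*} [Group G] [Group H] [Finite G] {p : ℕ} [Fact p.Prime] (f : G →* H) (R : Subgroup H)
    (hR : IsPGroup p R) (hR' : R ≤ f.range) : ∃ Γ : Subgroup G, IsPGroup p Γ ∧ Γ.map f = R := by
  let C := R.comap f
  let ψ : C →* R := f.subgroupComap R
  have hψ : Function.Surjective ψ := by
    rintro ⟨y, hy⟩
    obtain ⟨g, rfl⟩ := hR' hy
    exact ⟨⟨g, hy⟩, rfl⟩
  have hfin : Finite R := Finite.of_surjective ψ hψ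
  let S : Sylow p C := default
  have h1 : ((S.mapSurjective hψ : Sylow p R) : Subgroup R) = (S : Subgroup C).map ψ := Sylow.coe_mapSurjective hψ S
  have htop : IsPGroup p (⊤ : Subgroup R) := hR.of_equiv Subgroup.topEquiv.symm
  have h2 : (S : Subgroup C).map ψ = ⊤ := by
    rw [← h1]
    exact ((S.mapSurjective hψ).3 htop le_top).symm
  refine ⟨(S : Subgroup C).map C.subtype, S.2.map _, ?_⟩
  rw [Subgroup.map_map]
  have h3 : f.comp C.subtype = R.subtype.comp ψ := rfl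
  rw [h3, ← Subgroup.map_map, h2, ← MonoidHom.range_eq_map, Subgroup.range_subtype]

variable {F : Type} [Field F] [Fintype F]

theorem meet_range_coord {n m ε : ℕ} (hnm : n = 2 * m + ε) (hn : 3 ≤ 2 * m + ε) (hε : ε < 2)
    (hF : Odd (Fintype.card F))
    (P : Subgroup (MulAut (ProjectiveSpecialLinearGroup (Fin n) F))) (hP : IsPGroup 2 P) :
    ∃ x : ProjectiveSpecialLinearGroup (Fin n) F, ∀ y ∈ P, y ∈ (Psi n F).range →
      MulAut.conj x * y * (MulAut.conj x)⁻¹ ∈ P → y = 1 := by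
  have h2' : Fact (Nat.Prime 2) := ⟨Nat.prime_two⟩
  obtain ⟨p, hch⟩ := CharP.exists F
  have hp : Fact p.Prime := ⟨CharP.char_is_prime F p⟩
  have h2 : (2 : F) ≠ 0 := by
    intro h0
    have h3 : ((2 : ℕ) : F) = 0 := by exact_mod_cast h0
    have h4 := (CharP.cast_eq_zero_iff F p 2).1 h3
    have h5 : p = 2 := (Nat.prime_dvd_prime_iff_eq hp.out Nat.prime_two).1 h4
    subst h5
    obtain ⟨n, -, hn⟩ := FiniteField.card F 2
    rw [hn] at hF
    have h6 : (n : ℕ) ≠ 0 := n.ne_zero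
    rw [Nat.odd_pow_iff h6] at hF
    exact absurd hF (by decide)
  obtain ⟨φ⟩ : Nonempty ((Fin n → F) ≃ₗ[F] VV F m ε) := by
    rw [hnm]
    exact exists_coord (F := F) m ε
  let B := BM F (Fin m) (Fin 2 → F) (Fin ε → F)
  -- the representation
  let toL : GL (Fin n) F →* ((Fin n → F) ≃ₗ[F] (Fin n → F)) :=
    ((LinearMap.GeneralLinearGroup.generalLinearEquiv F (Fin n → F)).toMonoidHom).comp
      (Matrix.GeneralLinearGroup.toLin (n := Fin n) (R := F)).toMonoidHom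
  let ρ : GL (Fin n) F →* (VV F m ε ≃ₗ[F] VV F m ε) := (conjL φ).toMonoidHom.comp toL
  have hρ : ∀ s v, ρ s v = φ ((s : Matrix (Fin n) (Fin n) F) *ᵥ (φ.symm v)) := fun s v => rfl
  have hρi : Function.Injective ρ := by
    intro s t h
    apply Units.ext
    apply Matrix.mulVec_injective
    funext v
    have h3 := congrArg (fun g : VV F m ε ≃ₗ[F] VV F m ε => g (φ v)) h
    simp only [hρ, LinearEquiv.symm_apply_apply] at h3
    exact φ.injective h3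
  have hρs : ∀ g : VV F m ε ≃ₗ[F] VV F m ε, LinearEquiv.det g = 1 →
      ∃ s : SpecialLinearGroup (Fin n) F, ρ (s : GL (Fin n) F) = g := by
    intro g hg
    have h3 : LinearMap.det (((conjL φ).symm g : (Fin n → F) ≃ₗ[F] (Fin n → F)) : (Fin n → F) →ₗ[F] (Fin n → F)) = 1 := by
      have h4 : (((conjL φ).symm g : (Fin n → F) ≃ₗ[F] (Fin n → F)) : (Fin n → F) →ₗ[F] (Fin n → F)) =
          (φ.symm : VV F m ε →ₗ[F] (Fin n → F)) ∘ₗ (g : VV F m ε →ₗ[F] VV F m ε) ∘ₗ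
            (φ.symm.symm : (Fin n → F) →ₗ[F] VV F m ε) := rfl
      rw [h4, LinearMap.det_conj, ← LinearEquiv.coe_det, hg, Units.val_one]
    let s : Matrix.SpecialLinearGroup (Fin n) F := ⟨LinearMap.toMatrix' (((conjL φ).symm g :
      (Fin n → F) ≃ₗ[F] (Fin n → F)) : (Fin n → F) →ₗ[F] (Fin n → F)), by rw [LinearMap.det_toMatrix', h3]⟩
    refine ⟨s, LinearEquiv.ext fun v => ?_⟩
    rw [hρ]
    change φ ((LinearMap.toMatrix' (((conjL φ).symm g :
      (Fin n → F) ≃ₗ[F] (Fin n → F)) : (Fin n → F) →ₗ[F] (Fin n → F))) *ᵥ (φ.symm v)) = g v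
    rw [LinearMap.toMatrix'_mulVec]
    change φ (φ.symm (g (φ (φ.symm v)))) = g v
    rw [LinearEquiv.apply_symm_apply, LinearEquiv.apply_symm_apply]
  have hfinL : Finite (VV F m ε ≃ₗ[F] VV F m ε) := Nat.finite_of_card_ne_zero (by
    rw [Nat.card_congr (conjL φ).symm.toEquiv, card_lin]; exact gl_ne _)
  -- scalars
  have hscal : ∀ u : Fˣ, ∀ v, ρ (scal n F u) v = (u : F) • v := by
    intro u v
    rw [hρ, coe_scal, Matrix.scalar_apply, Matrix.diagonal_const_mulVec, map_smul, LinearEquiv.apply_symm_apply]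
  have hscalB : ∀ (g : VV F m ε ≃ₗ[F] VV F m ε) (r : F), r ≠ 0 → (∀ v, g v = r • v) → g ∈ B := by
    intro g r hr hg
    refine ⟨1, fun _ => LinearEquiv.smulOfNeZero F _ r hr, LinearEquiv.smulOfNeZero F _ r hr, ?_⟩
    exact LinearEquiv.ext fun v => hg v
  -- the lifted 2-group
  obtain ⟨Γ, hΓ, hΓR⟩ := exists_lift (p := 2) (Psi n F) (P ⊓ (Psi n F).range) (hP.to_le inf_le_left) inf_le_right
  obtain ⟨h, -, hh⟩ := Cfsg.Agent.H728.Syl3.exists_conj_le (p := 2) B ⊤ (by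
    rw [Subgroup.relIndex_top_right]
    exact not_two_dvd hF m ε hε) (Γ.map ρ) le_top (hΓ.map ρ)
  obtain ⟨x, ⟨k, hk⟩, hx⟩ := sep_frame (p := p) (F := F) hn hε h2
  -- conjugate
  have hdet : LinearEquiv.det (h * x * h⁻¹) = 1 := by
    rw [map_mul, map_mul, det_eq_one hk, mul_one, ← map_mul, mul_inv_cancel, map_one]
  obtain ⟨s, hs⟩ := hρs _ hdet
  refine ⟨pr s, fun y hy hyr hys => ?_⟩
  have hlift : ∀ y ∈ P ⊓ (Psi n F).range, ∃ γ ∈ Γ, Psi n F γ = y := by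
    intro y hy
    rw [← hΓR] at hy
    exact hy
  obtain ⟨γ, hγ, rfl⟩ := hlift y ⟨hy, hyr⟩
  have e0 : MulAut.conj (pr s) * Psi n F γ * (MulAut.conj (pr s))⁻¹ = Psi n F ((s : GL (Fin n) F) * γ * (s : GL (Fin n) F)⁻¹) := by
    rw [map_mul, map_mul, map_inv, Psi_coe]
  rw [e0] at hys
  obtain ⟨γ', hγ', he⟩ := hlift _ ⟨hys, ⟨_, rfl⟩⟩
  obtain ⟨u, hu⟩ := (Psi_eq_Psi_iff (by omega)).1 he.symm
  have h3 : h⁻¹ * ρ γ * h ∈ B := hh _ (Subgroup.mem_map_of_mem ρ hγ)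
  have h4 : h⁻¹ * ρ γ' * h ∈ B := hh _ (Subgroup.mem_map_of_mem ρ hγ')
  have h5 : h⁻¹ * ρ (scal n F u) * h ∈ B := by
    refine hscalB _ u u.ne_zero fun v => ?_
    change h⁻¹ (ρ (scal n F u) (h v)) = (u : F) • v
    rw [hscal, map_smul]
    congr 1
    exact h.symm_apply_apply v
  have h6 : x * (h⁻¹ * ρ γ * h) * x⁻¹ ∈ B := by
    have e : x * (h⁻¹ * ρ γ * h) * x⁻¹ = (h⁻¹ * ρ (scal n F u) * h) * (h⁻¹ * ρ γ' * h) := by
      have e1 : ρ (scal n F u) * ρ γ' = ρ (s : GL (Fin n) F) * ρ γ * (ρ (s : GL (Fin n) F))⁻¹ := by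
        rw [← map_mul, ← map_inv, ← map_mul, ← map_mul, hu]
      calc x * (h⁻¹ * ρ γ * h) * x⁻¹ = h⁻¹ * ((h * x * h⁻¹) * ρ γ * (h * x * h⁻¹)⁻¹) * h := by group
        _ = h⁻¹ * (ρ (s : GL (Fin n) F) * ρ γ * (ρ (s : GL (Fin n) F))⁻¹) * h := by rw [hs]
        _ = h⁻¹ * (ρ (scal n F u) * ρ γ') * h := by rw [e1]
        _ = _ := by group
    rw [e]
    exact B.mul_mem h5 h4
  obtain ⟨j, hj⟩ := hΓ ⟨γ, hγ⟩
  have hj' : γ ^ 2 ^ j = 1 := congrArg Subtype.val hj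
  obtain ⟨a, ha⟩ := hx _ h3 h6 ⟨j, by
    have e1 := conj_pow (i := 2 ^ j) (a := h⁻¹) (b := ρ γ)
    rw [inv_inv] at e1
    rw [e1, ← map_pow, hj', map_one]
    group⟩
  have h7 : ∀ v, ρ γ v = a • v := by
    intro v
    have h8 := ha (h⁻¹ v)
    have h9 : (h⁻¹ * ρ γ * h) (h⁻¹ v) = h⁻¹ (ρ γ v) := by
      change h⁻¹ (ρ γ (h (h⁻¹ v))) = _
      congr 2
      exact h.apply_symm_apply v
    rw [h9, ← map_smul] at h8
    exact (h⁻¹).injective h8
  have ha0 : a ≠ 0 := by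
    rintro rfl
    have hne : Nonempty (Fin n) := ⟨⟨0, by omega⟩⟩
    obtain ⟨v, hv⟩ := exists_ne (0 : Fin n → F)
    have h8 := h7 (φ v)
    rw [zero_smul] at h8
    exact hv (φ.map_eq_zero_iff.1 ((ρ γ).map_eq_zero_iff.1 h8))
  have h8 : γ = scal n F (Units.mk0 a ha0) := by
    apply hρi
    refine LinearEquiv.ext fun v => ?_
    rw [h7, hscal]
    rfl
  rw [h8, Psi_scal]

theorem meet_range {n : ℕ} (hn : 3 ≤ n) (hF : Odd (Fintype.card F))
    (P : Subgroup (MulAut (ProjectiveSpecialLinearGroup (Fin n) F))) (hP : IsPGroup 2 P) :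
    ∃ x : ProjectiveSpecialLinearGroup (Fin n) F, ∀ y ∈ P, y ∈ (Psi n F).range →
      MulAut.conj x * y * (MulAut.conj x)⁻¹ ∈ P → y = 1 := by
  obtain ⟨m, ε, h, hε⟩ : ∃ m ε, n = 2 * m + ε ∧ ε < 2 := ⟨n / 2, n % 2, by omega, by omega⟩
  exact meet_range_coord h (h ▸ hn) hε hF P hP

end Cfsg.Agent.H750.R3
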