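import Cfsg.Agent.H750.R3.Tools
import Cfsg.Agent.H750.R3.PslNine
import Cfsg.Agent.H750.R3.PslMeet
import Cfsg.Agent.Lib.FieldAutCard
import Cfsg.Agent.S0249

/-!
# `Row3 2 (PSL_n(F))`, `n ≥ 3`, `|F|` odd (helper750, project S5761)
-/

set_option autoImplicit false
set_option linter.unusedSectionVars false

namespace Cfsg.Agent.H750.R3

open Matrix Cfsg.Agent.H233.B3
open Cfsg.Agent.ClassicalGeometry.AutPSL.Root
open Cfsg.Agent.ClassicalGeometry.AutPSL.Auto
open Cfsg.Agent.H199.PslAut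

section ty

variable {F : Type*} [Field F] {n : ℕ}

/-- `y` has field part `σ`, and is a graph automorphism iff `e`. -/
def Ty (y : MulAut (ProjectiveSpecialLinearGroup (Fin n) F)) (σ : F ≃+* F) (e : Bool) : Prop :=
  ∃ g : GL (Fin n) F, y = Psi n F g * phi n F σ * iot n F ^ e.toNat

theorem iot_pow_mul_Psi (e : Bool) (g : GL (Fin n) F) :
    ∃ g' : GL (Fin n) F, iot n F ^ e.toNat * Psi n F g = Psi n F g' * iot n F ^ e.toNat := by
  cases e
  · exact ⟨g, by simp⟩
  · exact ⟨itGL g, by simpa using iot_mul_Psi g⟩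

theorem iot_pow_mul_phi (e : Bool) (σ : F ≃+* F) :
    iot n F ^ e.toNat * phi n F σ = phi n F σ * iot n F ^ e.toNat := by
  cases e
  · simp
  · simpa using iot_mul_phi σ

theorem iot_pow_mul (e e' : Bool) : iot n F ^ e.toNat * iot n F ^ e'.toNat = iot n F ^ (xor e e').toNat := by
  cases e <;> cases e' <;> simp [iot_mul_iot]

theorem Ty.mul {y y' : MulAut (ProjectiveSpecialLinearGroup (Fin n) F)} {σ σ' : F ≃+* F} {e e' : Bool}
    (h : Ty y σ e) (h' : Ty y' σ' e') : Ty (y * y') (σ * σ') (xor e e') := by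
  obtain ⟨g, rfl⟩ := h
  obtain ⟨g', rfl⟩ := h'
  obtain ⟨g'', hg''⟩ := iot_pow_mul_Psi e g'
  refine ⟨g * mapGL σ g'', ?_⟩
  calc Psi n F g * phi n F σ * iot n F ^ e.toNat * (Psi n F g' * phi n F σ' * iot n F ^ e'.toNat)
      = Psi n F g * phi n F σ * (iot n F ^ e.toNat * Psi n F g') * phi n F σ' * iot n F ^ e'.toNat := by group
    _ = Psi n F g * (phi n F σ * Psi n F g'') * (iot n F ^ e.toNat * phi n F σ') * iot n F ^ e'.toNat := by
        rw [hg'']; group
    _ = Psi n F g * (Psi n F (mapGL σ g'') * phi n F σ) * (phi n F σ' * iot n F ^ e.toNat) * iot n F ^ e'.toNat := by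
        rw [phi_mul_Psi, iot_pow_mul_phi]
    _ = Psi n F g * Psi n F (mapGL σ g'') * (phi n F σ * phi n F σ') * (iot n F ^ e.toNat * iot n F ^ e'.toNat) := by
        group
    _ = _ := by rw [iot_pow_mul, ← map_mul, ← map_mul]

theorem Ty.one : Ty (1 : MulAut (ProjectiveSpecialLinearGroup (Fin n) F)) 1 false :=
  ⟨1, by simp⟩

theorem Ty.mem {y : MulAut (ProjectiveSpecialLinearGroup (Fin n) F)} (h : Ty y 1 false) :
    y ∈ (Psi n F).range := by
  obtain ⟨g, rfl⟩ := h
  exact ⟨g, by simp⟩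

theorem Ty.eq_one (hn : 2 ≤ n) {σ : F ≃+* F} (h : Ty (1 : MulAut (ProjectiveSpecialLinearGroup (Fin n) F)) σ false) :
    σ = 1 := by
  obtain ⟨g, hg⟩ := h
  simp only [Bool.toNat_false, pow_zero, mul_one] at hg
  exact (Psi_phi_eq hn (τ := 1) (hg.symm.trans (map_one _).symm)).2

end ty

section fin

variable {F : Type*} [Field F] [Finite F] {n : ℕ}

theorem exists_ty (hn : 2 ≤ n) (y : MulAut (ProjectiveSpecialLinearGroup (Fin n) F)) : ∃ σ e, Ty y σ e := by
  have _ : Fintype F := Fintype.ofFinite F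
  rcases exists_form hn y with ⟨g, σ, rfl⟩ | ⟨-, g, σ, rfl⟩
  · exact ⟨σ, false, g, by simp⟩
  · exact ⟨σ, true, g, by simp⟩

theorem Ty.sq (hn : 2 ≤ n) {y : MulAut (ProjectiveSpecialLinearGroup (Fin n) F)} {σ : F ≃+* F} {e : Bool}
    (h : Ty y σ e) (hy : y * y = 1) : σ * σ = 1 := by
  have h1 := h.mul h
  rw [hy, Bool.xor_self] at h1
  exact h1.eq_one hn

theorem aut_comm (σ τ : F ≃+* F) : σ * τ = τ * σ := by
  have h := Cfsg.Agent.H199.PslGraphField.isCyclic_ringEquiv F
  exact (IsCyclic.commGroup (α := F ≃+* F)).mul_comm σ τ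

/-- two elements with the same type differ by an element of `PGL` -/
theorem Ty.eq {D : Subgroup (MulAut (ProjectiveSpecialLinearGroup (Fin n) F))}
    (hD : ∀ y ∈ D, y ∈ (Psi n F).range → y = 1) (hn : 3 ≤ n)
    {y y' : MulAut (ProjectiveSpecialLinearGroup (Fin n) F)} {σ : F ≃+* F} {e : Bool}
    (h : Ty y σ e) (h' : Ty y' σ e) (hy : y ∈ D) (hy' : y' ∈ D) : y = y' := by
  obtain ⟨τ, e', ht⟩ := exists_ty (by omega) y'⁻¹
  have h1 : Ty (1 : MulAut (ProjectiveSpecialLinearGroup (Fin n) F)) (σ * τ) (xor e e') := by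
    have := h'.mul ht
    rwa [mul_inv_cancel] at this
  have h2 := h.mul ht
  have h3 : y * y'⁻¹ ∈ D := mul_mem hy (inv_mem hy')
  cases hee : xor e e' with
  | false =>
    rw [hee] at h1 h2
    rw [h1.eq_one (by omega)] at h2
    exact mul_inv_eq_one.1 (hD _ h3 h2.mem)
  | true =>
    exfalso
    rw [hee] at h1
    obtain ⟨g, hg⟩ := h1
    simp only [Bool.toNat_true, pow_one] at hg
    exact not_graph' hn (g := g) (σ := σ * τ) (τ := 1) (by rw [← hg, map_one])

/-- `|D| ≤ 2 |Aut F|` -/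
theorem card_le {D : Subgroup (MulAut (ProjectiveSpecialLinearGroup (Fin n) F))}
    (hD : ∀ y ∈ D, y ∈ (Psi n F).range → y = 1) (hn : 3 ≤ n) : Nat.card D ≤ 2 * Nat.card (F ≃+* F) := by
  have hfin : Finite (F ≃+* F) := DFunLike.finite _
  choose σ e h using fun y : D => exists_ty (n := n) (by omega) (y : MulAut (ProjectiveSpecialLinearGroup (Fin n) F))
  have h1 : Nat.card D ≤ Nat.card (Bool × (F ≃+* F)) := by
    refine Nat.card_le_card_of_injective (fun y => (e y, σ y)) fun y y' hyy => ?_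
    have h2 := h y'
    have e1 : e y = e y' := congrArg Prod.fst hyy
    have e2 : σ y = σ y' := congrArg Prod.snd hyy
    rw [← e1, ← e2] at h2
    exact Subtype.ext ((h y).eq hD hn h2 y.2 y'.2)
  rwa [Nat.card_prod, Nat.card_eq_fintype_card (α := Bool), Fintype.card_bool] at h1

end fin

section U

variable {F : Type*} [Field F] [Finite F] {n : ℕ}

/-- a subgroup of `PSL_n(F)` of order `|W|` consisting of transvections with a given axis -/
theorem exists_U {W : Type*} [AddCommGroup W] (α : W →+ (Fin n → F)) (hα : Function.Injective α)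
    {l : Fin n → F} (hl : l ≠ 0) (h : ∀ w, l ⬝ᵥ α w = 0) :
    ∃ U : Subgroup (ProjectiveSpecialLinearGroup (Fin n) F), Nat.card U = Nat.card W := by
  let f : Multiplicative W →* Matrix.ProjectiveSpecialLinearGroup (Fin n) F :=
    MonoidHom.mk' (fun w => pr (tr (α w.toAdd) l (h _))) (by
      intro v w
      rw [← map_mul, tr_mul_same_axis]
      congr 1
      apply tr_eq_iff.2
      congr 1
      rw [← map_add]
      rfl)
  have hf : Function.Injective f := by
    intro v w hvw
    have h1 := tr_eq_iff.1 (tr_eq_of_pr_eq (show pr (tr (α v.toAdd) l (h _)) = pr (tr (α w.toAdd) l (h _)) from hvw))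
    obtain ⟨j, hj⟩ := Function.ne_iff.1 hl
    have hj' : l j ≠ 0 := hj
    apply Multiplicative.toAdd.injective
    apply hα
    funext i
    have h2 := congrFun (congrFun h1 i) j
    rw [vecMulVec_apply, vecMulVec_apply] at h2
    exact mul_right_cancel₀ hj' h2
  refine ⟨f.range, ?_⟩
  rw [← Nat.card_congr (MonoidHom.ofInjective hf).toEquiv]
  exact Nat.card_congr Multiplicative.toAdd

theorem exists_sq_subgroup (hn : 3 ≤ n) :
    ∃ U : Subgroup (ProjectiveSpecialLinearGroup (Fin n) F), Nat.card U = Nat.card F ^ 2 := by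
  obtain ⟨i, j, k, hij, hik, hjk⟩ : ∃ i j k : Fin n, i ≠ j ∧ i ≠ k ∧ j ≠ k :=
    ⟨⟨0, by omega⟩, ⟨1, by omega⟩, ⟨2, by omega⟩, by simp, by simp, by simp⟩
  let α : (Fin 2 → F) →+ (Fin n → F) :=
    { toFun := fun w => Pi.single i (w 0) + Pi.single j (w 1)
      map_zero' := by simp
      map_add' := fun v w => by
        rw [Pi.add_apply, Pi.add_apply, Pi.single_add, Pi.single_add]
        abel }
  have hα : Function.Injective α := by
    intro v w hvw
    have e0 := congrFun hvw i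
    have e1 := congrFun hvw j
    simp only [α, AddMonoidHom.coe_mk, ZeroHom.coe_mk, Pi.add_apply, Pi.single_eq_same, Pi.single_eq_of_ne hij,
      Pi.single_eq_of_ne hij.symm, add_zero, zero_add] at e0 e1
    funext i
    fin_cases i
    · exact e0
    · exact e1
  obtain ⟨U, hU⟩ := exists_U (W := Fin 2 → F) α hα (l := Pi.single k 1) (by simp) (by
    intro w
    simp only [α, AddMonoidHom.coe_mk, ZeroHom.coe_mk, dotProduct_add, dotProduct_single, Pi.single_eq_of_ne hik,
      Pi.single_eq_of_ne hjk, zero_mul, add_zero])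
  have hc : Nat.card (Fin 2 → F) = Nat.card F ^ 2 := by
    rw [Nat.card_fun, Nat.card_eq_fintype_card (α := Fin 2), Fintype.card_fin]
  exact ⟨U, hU.trans hc⟩

/-- the index of a 2-subgroup of `PSL_n(F)`, `n ≥ 3`, is at least `q²` -/
theorem sq_le_index (hn : 3 ≤ n) (hodd : Odd (Nat.card F)) {Q : Subgroup (ProjectiveSpecialLinearGroup (Fin n) F)}
    (hQ : IsPGroup 2 Q) : Nat.card F ^ 2 ≤ Q.index := by
  obtain ⟨U, hU⟩ := exists_sq_subgroup (F := F) hn
  rw [← hU]
  exact index_ge hQ U (by rw [hU]; exact hodd.pow)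

theorem not_comm (hn : 3 ≤ n) [IsSimpleGroup (ProjectiveSpecialLinearGroup (Fin n) F)] :
    ¬ IsMulCommutative (ProjectiveSpecialLinearGroup (Fin n) F) := by
  apply Cfsg.Agent.H68.MeetB.not_comm_of_card
  intro hp
  obtain ⟨U, hU⟩ := exists_sq_subgroup (F := F) hn
  have h1 : Nat.card F ^ 2 ∣ Nat.card (ProjectiveSpecialLinearGroup (Fin n) F) := hU ▸ Subgroup.card_subgroup_dvd_card U
  have h2 : 1 < Nat.card F := Finite.one_lt_card
  rcases (Nat.dvd_prime hp).1 h1 with h3 | h3
  · nlinarith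
  · rw [← h3] at hp
    exact Nat.Prime.not_prime_pow (by norm_num) hp

end U

section row

variable {F : Type} [Field F] [Fintype F] {n : ℕ}

theorem pow_bound : ∀ f : ℕ, 2 ≤ f → 18 * f < 9 ^ f
  | 0, h => by omega
  | 1, h => by omega
  | 2, _ => by norm_num
  | f + 3, _ => by
    have := pow_bound (f + 2) (by omega)
    rw [pow_succ]
    omega

/-- **The row `PSL_n(F)`, `n ≥ 3`, `|F|` odd, of S5761 at `p = 2`.** -/
theorem row3_PSL_three (hn : 3 ≤ n) (hF : Odd (Fintype.card F)) :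
    Row3 2 (ProjectiveSpecialLinearGroup (Fin n) F) := by
  classical
  have hsim : IsSimpleGroup (ProjectiveSpecialLinearGroup (Fin n) F) := Cfsg.Agent.S0249.result n hn
  have hodd : Odd (Nat.card F) := by rwa [Nat.card_eq_fintype_card]
  obtain ⟨p, f, hp, hf1, hpf⟩ : ∃ p f : ℕ, p.Prime ∧ 1 ≤ f ∧ Fintype.card F = p ^ f := by
    obtain ⟨p, hch⟩ := CharP.exists F
    obtain ⟨f, hp, hf⟩ := FiniteField.card F p
    exact ⟨p, f, hp, f.pos, hf⟩
  have hpF : Fact p.Prime := ⟨hp⟩
  have hgal : Nat.card (F ≃+* F) = f := Cfsg.Agent.Lib.FieldAutCard.card_ringAut hf1 hpf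
  have hp3 : 3 ≤ p := by
    have h2 := hp.two_le
    have h3 : p ≠ 2 := by
      rintro rfl
      rw [hpf, Nat.odd_pow_iff (by omega)] at hF
      exact absurd hF (by decide)
    omega
  have hq9 : 9 ^ f ≤ Nat.card F ^ 2 := by
    rw [Nat.card_eq_fintype_card, hpf, ← pow_mul, mul_comm, pow_mul]
    exact Nat.pow_le_pow_left (by nlinarith) f
  have hT : ¬ IsMulCommutative (ProjectiveSpecialLinearGroup (Fin n) F) := not_comm hn
  intro P hP
  obtain ⟨x, hx⟩ := meet_range hn hF P hP
  have hD : ∀ y ∈ DD P x, y ∈ (Psi n F).range → y = 1 := fun y hy hr => hx y hy.1 hr hy.2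
  have hidx := sq_le_index hn hodd (inn_pgroup hT hP)
  have hcard := card_le hD hn
  rw [hgal] at hcard
  by_cases hex : ∃ d ∈ DD P x, d ≠ 1 ∧ d * d = 1 ∧ ∃ σ, Ty d σ false
  · obtain ⟨d, hd, hd1, hdd, τ, hτ⟩ := hex
    have hτ2 := hτ.sq (by omega) hdd
    have hτ1 : τ ≠ 1 := by
      rintro rfl
      exact hd1 (hD d hd hτ.mem)
    have hf2 : 2 ≤ f := by
      by_contra hlt
      have : f = 1 := by omega
      rw [this] at hgal
      have hsub := (Nat.card_eq_one_iff_unique.1 hgal).1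
      exact hτ1 (Subsingleton.elim _ _)
    have hpick : ∀ σ : F ≃+* F, ∃ d' : MulAut (ProjectiveSpecialLinearGroup (Fin n) F), (d' ≠ 1 ∧ d' * d' = 1) ∧
        ∀ y ∈ DD P x, y ≠ 1 → y * y = 1 → Ty y σ true → y = d' := by
      intro σ
      by_cases hy : ∃ y ∈ DD P x, y ≠ 1 ∧ y * y = 1 ∧ Ty y σ true
      · obtain ⟨y, hy, hy1, hyy, hyt⟩ := hy
        exact ⟨y, ⟨hy1, hyy⟩, fun z hz _ _ hzt => hzt.eq hD hn hyt hz hy⟩
      · push Not at hy
        exact ⟨d, ⟨hd1, hdd⟩, fun z hz hz1 hzz hzt => absurd hzt (hy z hz hz1 hzz)⟩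
    obtain ⟨d₁, hd₁, hd₁'⟩ := hpick 1
    obtain ⟨d₂, hd₂, hd₂'⟩ := hpick τ
    refine g3_of_three hT hP x ![d, d₁, d₂] ?_ ?_ ?_ ?_
    · intro y hy hy1 hyy
      obtain ⟨σ, e, hye⟩ := exists_ty (by omega) y
      have hσ2 := hye.sq (by omega) hyy
      have hσ : σ = 1 ∨ σ = τ := by
        by_cases hσ1 : σ = 1
        · exact Or.inl hσ1
        · right
          exact Cfsg.Agent.H199.PslGraphField.involution_unique
            (orderOf_eq_prime (by rw [pow_two, hσ2]) hσ1) (orderOf_eq_prime (by rw [pow_two, hτ2]) hτ1)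
      cases e with
      | false =>
        rcases hσ with rfl | rfl
        · exact absurd (hD y hy hye.mem) hy1
        · exact ⟨0, hye.eq hD hn hτ hy hd⟩
      | true =>
        rcases hσ with rfl | rfl
        · exact ⟨1, hd₁' y hy hy1 hyy hye⟩
        · exact ⟨2, hd₂' y hy hy1 hyy hye⟩
    · intro i
      fin_cases i
      · exact ⟨hd1, hdd⟩
      · exact hd₁
      · exact hd₂
    · obtain ⟨A, hA⟩ := hτ
      simp only [Bool.toNat_false, pow_zero, mul_one] at hA
      change ∃ R : Subgroup _, Odd (Nat.card R) ∧ 9 ≤ Nat.card R ∧ ∀ c ∈ R, d c = c⁻¹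
      subst hA
      exact exists_nine hn hodd hτ1 hdd
    · have := pow_bound f hf2
      omega
  · push Not at hex
    have hone : ∀ y ∈ DD P x, ∀ y' ∈ DD P x, y * y = 1 → y' * y' = 1 → y ≠ 1 → y' ≠ 1 → y = y' := by
      intro y hy y' hy' hyy hyy' hy1 hy1'
      obtain ⟨σ, e, hye⟩ := exists_ty (by omega) y
      obtain ⟨σ', e', hye'⟩ := exists_ty (by omega) y'
      cases e with
      | false => exact absurd hye (hex y hy hy1 hyy σ)
      | true =>
        cases e' with
        | false => exact absurd hye' (hex y' hy' hy1' hyy' σ')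
        | true =>
          have hz := hye.mul hye'
          have hzz := hz.mul hz
          rw [Bool.xor_self] at hz
          have hs : σ * σ' * (σ * σ') = 1 := by
            have e1 : σ * σ' * (σ * σ') = (σ * σ) * (σ' * σ') := by
              rw [mul_assoc, ← mul_assoc σ' σ σ', aut_comm σ' σ]
              group
            rw [e1, hye.sq (by omega) hyy, one_mul, hye'.sq (by omega) hyy']
          rw [hs, Bool.xor_self] at hzz
          have hzD : y * y' ∈ DD P x := mul_mem hy hy'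
          have hz1 := hD _ (mul_mem hzD hzD) hzz.mem
          by_contra hne
          refine hex (y * y') hzD ?_ hz1 _ hz
          intro h
          apply hne
          rw [mul_eq_one_iff_eq_inv] at h
          rw [h, inv_eq_iff_mul_eq_one.2 hyy']
    by_cases h4 : Nat.card (DD P x) ≤ 4
    · exact g3_of_four hT hP x hone h4
    · apply g3_of_one hT hP x hone
      have := pow_bound f (by omega)
      omega

end row

end Cfsg.Agent.H750.R3
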