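import Cfsg.Agent.H233.B3.Row2
import Cfsg.Agent.H199.PslGraphField

/-!
# Rows `Row3 2 T` of S5761: three involutions (helper750)

* `g3_of_three` : `P ∩ P ^ x` has at most three involutions, one of them inverts a subgroup of odd order `≥ 9`;
* `index_ge` : the index of a 2-subgroup is at least the order of any subgroup of odd order.
-/

set_option autoImplicit false

namespace Cfsg.Agent.H750.R3

open Subgroup Cfsg.Agent.H233.B3 Cfsg.Agent.H903.SylMeet

variable {T : Type*} [Group T]

theorem g3_of_three [Finite T] [IsSimpleGroup T] (hT : ¬ IsMulCommutative T) {P : Subgroup (MulAut T)}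
    (hP : IsPGroup 2 P) (x : T) (d : Fin 3 → MulAut T)
    (hd : ∀ y ∈ DD P x, y ≠ 1 → y * y = 1 → ∃ i, y = d i) (h1 : ∀ i, d i ≠ 1 ∧ d i * d i = 1)
    (h9 : ∃ R : Subgroup T, Odd (Nat.card R) ∧ 9 ≤ Nat.card R ∧ ∀ c ∈ R, d 0 c = c⁻¹)
    (hn : 9 * Nat.card (DD P x) < (inn P).index) : G3 P := by
  classical
  have hinj : Function.Injective (MulAut.conj : T →* MulAut T) := conj_injective hT
  have hcard := Subgroup.index_mul_card (inn P)
  have hpos : 0 < Nat.card (inn P) := Nat.card_pos
  apply g3_of_count x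
  have hpow : ∀ (z : T) (y : MulAut T), y ∈ DD P x → MulAut.conj z * y * (MulAut.conj z)⁻¹ ∈ P → y ≠ 1 →
      ∃ i, MulAut.conj z * d i * (MulAut.conj z)⁻¹ ∈ P := by
    intro z y hy hz hy1
    obtain ⟨n, hn⟩ := hP ⟨y, hy.1⟩
    obtain ⟨k, hk1, hk2⟩ := exists_inv_pow (n := n) (by simpa using congrArg Subtype.val hn) hy1
    obtain ⟨i, hi⟩ := hd (y ^ 2 ^ k) (pow_mem hy _) hk1 hk2
    refine ⟨i, ?_⟩
    have := pow_mem hz (2 ^ k)
    rwa [conj_pow, hi] at this
  have _ : Fintype T := Fintype.ofFinite T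
  let bad : Fin 3 → Finset T := fun i =>
    Finset.univ.filter fun z => MulAut.conj z * d i * (MulAut.conj z)⁻¹ ∈ P
  let good : Finset T :=
    Finset.univ.filter fun z => ∀ y ∈ DD P x, MulAut.conj z * y * (MulAut.conj z)⁻¹ ∈ P → y = 1
  have hgood : Nat.card {z : T // ∀ y ∈ DD P x, MulAut.conj z * y * (MulAut.conj z)⁻¹ ∈ P → y = 1} = good.card := by
    rw [Nat.card_eq_fintype_card, Fintype.card_subtype]
  have hbadc : ∀ i, Nat.card {z : T // MulAut.conj z * d i * (MulAut.conj z)⁻¹ ∈ P} = (bad i).card := by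
    intro i
    rw [Nat.card_eq_fintype_card, Fintype.card_subtype]
  rw [hgood]
  have hcov : (Finset.univ : Finset T) ⊆ good ∪ (bad 0 ∪ (bad 1 ∪ bad 2)) := by
    intro z _
    by_cases hz : z ∈ good
    · exact Finset.mem_union_left _ hz
    · apply Finset.mem_union_right
      have h2 : ∃ y ∈ DD P x, MulAut.conj z * y * (MulAut.conj z)⁻¹ ∈ P ∧ y ≠ 1 := by
        by_contra hcon
        push Not at hcon
        exact hz (Finset.mem_filter.2 ⟨Finset.mem_univ _, hcon⟩)
      obtain ⟨y, hy, hyz, hy1⟩ := h2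
      obtain ⟨i, hi⟩ := hpow z y hy hyz hy1
      have h3 : z ∈ bad i := Finset.mem_filter.2 ⟨Finset.mem_univ _, hi⟩
      fin_cases i
      · exact Finset.mem_union_left _ h3
      · exact Finset.mem_union_right _ (Finset.mem_union_left _ h3)
      · exact Finset.mem_union_right _ (Finset.mem_union_right _ h3)
  have hle : Nat.card T ≤ good.card + ((bad 0).card + ((bad 1).card + (bad 2).card)) := by
    have h2 := Finset.card_le_card hcov
    rw [Finset.card_univ, ← Nat.card_eq_fintype_card] at h2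
    refine h2.trans ((Finset.card_union_le _ _).trans (Nat.add_le_add_left ?_ _))
    exact (Finset.card_union_le _ _).trans (Nat.add_le_add_left (Finset.card_union_le _ _) _)
  have hb3 : ∀ i, 3 * (bad i).card ≤ Nat.card T := by
    intro i
    obtain ⟨R, hR1, hR2, hR3⟩ := exists_inverted hT (h1 i).2 (h1 i).1
    have := card_bad hinj hP R hR1 hR3
    rw [hbadc] at this
    exact (Nat.mul_le_mul_right _ hR2).trans this
  have hb9 : 9 * (bad 0).card ≤ Nat.card T := by
    obtain ⟨R, hR1, hR2, hR3⟩ := h9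
    have := card_bad hinj hP R hR1 hR3
    rw [hbadc] at this
    exact (Nat.mul_le_mul_right _ hR2).trans this
  have h2 : 9 * (Nat.card (DD P x) * Nat.card (inn P)) < Nat.card T := by
    rw [← hcard, ← mul_assoc]
    exact Nat.mul_lt_mul_of_pos_right hn hpos
  have h31 := hb3 1
  have h32 := hb3 2
  omega

/-- The index of a 2-subgroup is at least the order of a subgroup of odd order. -/
theorem index_ge [Finite T] {Q : Subgroup T} (hQ : IsPGroup 2 Q) (U : Subgroup T) (hU : Odd (Nat.card U)) :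
    Nat.card U ≤ Q.index := by
  have hQ0 : 0 < Nat.card Q := Nat.card_pos
  have h2 : Fact (Nat.Prime 2) := ⟨Nat.prime_two⟩
  obtain ⟨a, ha⟩ := hQ.exists_card_eq
  have hdis : Disjoint U Q := by
    apply Subgroup.disjoint_of_coprime_natCard
    rw [ha]
    exact Nat.Coprime.pow_right _ (Nat.coprime_two_right.2 hU)
  have h1 : Nat.card U * Nat.card Q ≤ Nat.card T := by
    rw [← Nat.card_prod]
    exact Nat.card_le_card_of_injective _ (Subgroup.mul_injective_of_disjoint hdis)
  rw [← Q.index_mul_card] at h1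
  exact Nat.le_of_mul_le_mul_right h1 hQ0

end Cfsg.Agent.H750.R3
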